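import Mathlib

/-!
# Packed square matrices over a field of characteristic 2, any size (helper751)

The generic version of `ChevalleyStructure.TwF4.Bits`: bit `n * row + col` of a natural number.
-/

set_option autoImplicit false
set_option linter.unusedSectionVars false

namespace Cfsg.Agent.H751.Two.Bits

/-- a sparse matrix: list of (row, column) positions of ones (with multiplicity mod 2) -/
abbrev Sparse := List (ℕ × ℕ)

/-- row `s` of the packed matrix `M` moved to row `u` -/
def moveRow (n M u s : ℕ) : ℕ := ((M >>> (n * s)) % 2 ^ n) <<< (n * u)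

/-- product of the sparse matrix `l` with the packed matrix `M` -/
def lmul (n : ℕ) (l : Sparse) (M : ℕ) : ℕ :=
  match M with
  | 0 => 0
  | M => l.foldr (fun e acc => acc ^^^ moveRow n M e.1 e.2) 0

theorem testBit_moveRow (n M u s i j : ℕ) (hj : j < n) :
    (moveRow n M u s).testBit (n * i + j) = (decide (i = u) && M.testBit (n * s + j)) := by
  unfold moveRow
  rw [Nat.testBit_shiftLeft, Nat.testBit_mod_two_pow, Nat.testBit_shiftRight]
  by_cases h : i = u
  · subst h
    have h1 : n * i + j ≥ n * i := Nat.le_add_right _ _
    have h2 : n * i + j - n * i = j := by omega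
    simp [h1, h2, hj]
  · rcases lt_or_gt_of_ne h with h' | h'
    · have h0 : n * (i + 1) ≤ n * u := Nat.mul_le_mul_left n h'
      rw [Nat.mul_add, Nat.mul_one] at h0
      have h1 : ¬ (n * i + j ≥ n * u) := by omega
      simp [h, h1]
    · have h0 : n * (u + 1) ≤ n * i := Nat.mul_le_mul_left n h'
      rw [Nat.mul_add, Nat.mul_one] at h0
      have h1 : ¬ (n * i + j - n * u < n) := by omega
      simp [h, h1]

section Sem

variable {I : Type*} [Fintype I] [DecidableEq I] (n : ℕ) (pos : I → ℕ)
variable (K : Type*) [Field K]

/-- the matrix represented by the packed natural number `M` -/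
def sem (M : ℕ) : Matrix I I K := Matrix.of fun i j => if M.testBit (n * pos i + pos j) then 1 else 0

/-- the matrix represented by a sparse list -/
def semS (l : Sparse) : Matrix I I K :=
  Matrix.of fun i j => (l.map fun e => if e.1 = pos i ∧ e.2 = pos j then (1 : K) else 0).sum

variable {K}

theorem sem_apply (M : ℕ) (i j : I) :
    sem n pos K M i j = if M.testBit (n * pos i + pos j) then 1 else 0 := rfl

theorem semS_apply (l : Sparse) (i j : I) :
    semS pos K l i j = (l.map fun e => if e.1 = pos i ∧ e.2 = pos j then (1 : K) else 0).sum := rfl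

theorem sem_zero : sem n pos K 0 = 0 := by
  ext i j
  simp [sem_apply]

theorem sem_xor [CharP K 2] (a b : ℕ) : sem n pos K (a ^^^ b) = sem n pos K a + sem n pos K b := by
  ext i j
  rw [Matrix.add_apply, sem_apply, sem_apply, sem_apply, Nat.testBit_xor]
  cases a.testBit (n * pos i + pos j) <;> cases b.testBit (n * pos i + pos j) <;>
    simp [CharTwo.add_self_eq_zero]

theorem semS_nil : semS pos K [] = 0 := by
  ext i j
  simp [semS_apply]

theorem semS_append (l l' : Sparse) :
    semS pos K (l ++ l') = semS pos K l + semS pos K l' := by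
  ext i j
  rw [Matrix.add_apply, semS_apply, semS_apply, semS_apply]
  simp

theorem semS_cons (e : ℕ × ℕ) (l : Sparse) :
    semS pos K (e :: l) = semS pos K [e] + semS pos K l := semS_append pos [e] l

/-- hypotheses on the position function: a bijection onto `{0, …, n - 1}` -/
structure PosOK (n : ℕ) (pos : I → ℕ) : Prop where
  inj : Function.Injective pos
  lt : ∀ i, pos i < n
  surj : ∀ m < n, ∃ i, pos i = m

variable {n} {pos}

theorem sem_moveRow (hp : PosOK n pos) (M u s : ℕ) (hs : s < n) :
    sem n pos K (moveRow n M u s) = semS pos K [(u, s)] * sem n pos K M := by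
  obtain ⟨k, hk⟩ := hp.surj s hs
  ext i j
  rw [sem_apply, testBit_moveRow _ _ _ _ _ _ (hp.lt j), Matrix.mul_apply]
  rw [Finset.sum_eq_single k]
  · rw [semS_apply, sem_apply]
    by_cases h : pos i = u
    · simp [h, hk]
    · have h' : ¬ (u = pos i) := fun e => h e.symm
      simp [h, h']
  · intro b _ hb
    rw [semS_apply]
    have : ¬ (s = pos b) := by
      intro e
      apply hb
      apply hp.inj
      rw [← e, hk]
    simp [this]
  · intro h
    exact absurd (Finset.mem_univ _) h

variable (n) in
/-- all columns of the entries are in range -/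
def okS (l : Sparse) : Bool := l.all fun e => Nat.blt e.2 n

theorem sem_lmul [CharP K 2] (hp : PosOK n pos) (l : Sparse) (hl : okS n l = true) (M : ℕ) :
    sem n pos K (lmul n l M) = semS pos K l * sem n pos K M := by
  have key : ∀ M : ℕ, sem n pos K (l.foldr (fun e acc => acc ^^^ moveRow n M e.1 e.2) 0) =
      semS pos K l * sem n pos K M := by
    intro M
    induction l with
    | nil => simp [semS_nil, sem_zero]
    | cons e l ih =>
      have h1 : Nat.blt e.2 n = true ∧ okS n l = true := by
        simpa only [okS, List.all_cons, Bool.and_eq_true] using hl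
      rw [List.foldr_cons, sem_xor, ih h1.2, semS_cons, Matrix.add_mul,
        sem_moveRow hp M e.1 e.2 (by simpa [Nat.blt_eq] using h1.1), add_comm]
  unfold lmul
  cases M with
  | zero => simp [sem_zero]
  | succ n => exact key (n + 1)

theorem sem_inj (hp : PosOK n pos) {a b : ℕ} (h : sem n pos K a = sem n pos K b) {i j : ℕ} (hi : i < n) (hj : j < n) :
    a.testBit (n * i + j) = b.testBit (n * i + j) := by
  obtain ⟨i', rfl⟩ := hp.surj i hi
  obtain ⟨j', rfl⟩ := hp.surj j hj
  have h4 := congrFun (congrFun h i') j'
  rw [sem_apply, sem_apply] at h4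
  cases h5 : a.testBit (n * pos i' + pos j') <;> cases h6 : b.testBit (n * pos i' + pos j') <;> simp_all

variable (n) in
/-- the code of the identity matrix -/
def idN : ℕ := (List.range n).foldr (fun i acc => acc ^^^ (1 <<< ((n + 1) * i))) 0

theorem testBit_idAux (m i j : ℕ) (hi : i < n) (hj : j < n) (hm : m ≤ n) :
    ((List.range m).foldr (fun i acc => acc ^^^ (1 <<< ((n + 1) * i))) 0).testBit (n * i + j) =
      (decide (i = j) && decide (i < m)) := by
  have key : ∀ (l : List ℕ) (a : ℕ), (l.foldr (fun i acc => acc ^^^ (1 <<< ((n + 1) * i))) a).testBit (n * i + j) =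
      (a.testBit (n * i + j) ^^ (l.foldr (fun k b => b ^^ decide (n * i + j = (n + 1) * k)) false)) := by
    intro l a
    induction l with
    | nil => simp
    | cons k l ih =>
      rw [List.foldr_cons, List.foldr_cons, Nat.testBit_xor, ih, Bool.xor_assoc]
      congr 2
      rw [Nat.one_shiftLeft, Nat.testBit_two_pow]
      congr 1
      exact propext eq_comm
  rw [key, Nat.zero_testBit, Bool.false_xor]
  have h3 : ∀ k < n, (n * i + j = (n + 1) * k) ↔ (i = k ∧ j = k) := by
    intro k hk
    constructor
    · intro h
      have h1 : n * i + j = n * k + k := by rw [h]; ring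
      rcases lt_trichotomy i k with h2 | h2 | h2
      · have h0 : n * (i + 1) ≤ n * k := Nat.mul_le_mul_left n h2
        rw [Nat.mul_add, Nat.mul_one] at h0
        omega
      · subst h2
        exact ⟨rfl, by omega⟩
      · have h0 : n * (k + 1) ≤ n * i := Nat.mul_le_mul_left n h2
        rw [Nat.mul_add, Nat.mul_one] at h0
        omega
    · rintro ⟨rfl, rfl⟩
      ring
  induction m with
  | zero => simp
  | succ m ih =>
    rw [List.range_succ, List.foldr_append, List.foldr_cons, List.foldr_nil, Bool.false_xor]
    have h5 : ∀ (l : List ℕ) (b : Bool), l.foldr (fun k b => b ^^ decide (n * i + j = (n + 1) * k)) b =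
        (b ^^ l.foldr (fun k b => b ^^ decide (n * i + j = (n + 1) * k)) false) := by
      intro l b
      induction l with
      | nil => simp
      | cons k l ih => rw [List.foldr_cons, List.foldr_cons, ih, Bool.xor_assoc]
    have h10 : decide (n * i + j = (n + 1) * m) = (decide (i = m) && decide (j = m)) := by
      have h11 := h3 m (by omega)
      by_cases h12 : n * i + j = (n + 1) * m
      · have h13 := h11.1 h12
        rw [decide_eq_true h12, decide_eq_true h13.1, decide_eq_true h13.2]; rfl
      · have h13 : ¬ (i = m ∧ j = m) := fun e => h12 (h11.2 e)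
        rw [decide_eq_false h12]
        symm
        rw [← Bool.decide_and]
        exact decide_eq_false h13
    rw [h5, ih (by omega), h10]
    by_cases h6 : i = j
    · subst h6
      by_cases h7 : i = m
      · subst h7; simp
      · have h8 : (i < m + 1) ↔ i < m := by omega
        simp [h7, h8]
    · by_cases h7 : i = m
      · subst h7
        have h9 : ¬ j = i := fun e => h6 e.symm
        simp [h6, h9]
      · simp [h6, h7]

theorem sem_idN (hp : PosOK n pos) : sem n pos K (idN n) = 1 := by
  ext i j
  rw [sem_apply, idN, testBit_idAux _ _ _ (hp.lt i) (hp.lt j) le_rfl, Matrix.one_apply]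
  by_cases h : i = j
  · subst h
    simp [hp.lt i]
  · have h' : ¬ pos i = pos j := fun e => h (hp.inj e)
    simp [h, h']

end Sem

end Cfsg.Agent.H751.Two.Bits
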