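import Cfsg.Agent.H751.Two.Word

/-!
# The word engine for the tabulated Chevalley groups in characteristic 2 (helper751)

`X : List (ℕ × Sparse)` : a table of root elements `x_r(1) - 1`; `okT D X` : the table is correct.
`wc n X w M` : the packed matrix of `wG w * M`; `eq_of_code` : equality of words from equality of numbers.
-/

set_option autoImplicit false

namespace Cfsg.Agent.H751.Two.Code

open Cfsg.Lie Cfsg.Agent.H751.Two.Bits Cfsg.Agent.H751.Two.Word Cfsg.Agent.ChevalleyStructure.Elts

universe u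

/-- boolean equality of sparse matrices -/
def beqS : Sparse → Sparse → Bool
  | [], [] => true
  | a :: l, b :: m => Nat.beq a.1 b.1 && Nat.beq a.2 b.2 && beqS l m
  | _, _ => false

theorem eq_of_beqS : ∀ {l m : Sparse}, beqS l m = true → l = m
  | [], [], _ => rfl
  | a :: l, b :: m, h => by
    unfold beqS at h
    rw [Bool.and_eq_true, Bool.and_eq_true] at h
    obtain ⟨⟨h1, h2⟩, h3⟩ := h
    rw [eq_of_beqS h3, Prod.ext (Nat.eq_of_beq_eq_true h1) (Nat.eq_of_beq_eq_true h2)]
  | [], b :: m, h => by exact absurd h (by simp [beqS])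
  | a :: l, [], h => by exact absurd h (by simp [beqS])

/-- look up a root in the table -/
def look (X : List (ℕ × Sparse)) (r : ℕ) : Sparse :=
  match X with
  | [] => []
  | e :: X => bif Nat.beq e.1 r then e.2 else look X r

/-- the root is in the table -/
def hasR (X : List (ℕ × Sparse)) (r : ℕ) : Bool :=
  match X with
  | [] => false
  | e :: X => bif Nat.beq e.1 r then true else hasR X r

/-- the table is correct -/
def okT (D : ChevalleyDatum) (X : List (ℕ × Sparse)) : Bool :=
  X.all fun e => Nat.blt e.1 D.nroots && okS (sz D) e.2 && beqS e.2 (Xls D e.1)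

theorem look_spec {D : ChevalleyDatum} {X : List (ℕ × Sparse)} (hX : okT D X = true) {r : ℕ} (hr : hasR X r = true) :
    r < D.nroots ∧ okS (sz D) (look X r) = true ∧ look X r = Xls D r := by
  induction X with
  | nil => exact absurd hr (by simp [hasR])
  | cons e X ih =>
    unfold okT at hX
    rw [List.all_cons, Bool.and_eq_true, Bool.and_eq_true, Bool.and_eq_true] at hX
    obtain ⟨⟨⟨h1, h2⟩, h3⟩, h4⟩ := hX
    unfold hasR at hr
    unfold look
    cases h : Nat.beq e.1 r with
    | true =>
      rw [cond_true]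
      have h5 : e.1 = r := Nat.eq_of_beq_eq_true h
      subst h5
      exact ⟨by simpa [Nat.blt_eq] using h1, h2, eq_of_beqS h3⟩
    | false =>
      rw [cond_false]
      rw [h, cond_false] at hr
      exact ih h4 hr

/-- the code of `x_r(1) * M` -/
def mulX (n : ℕ) (X : List (ℕ × Sparse)) (r M : ℕ) : ℕ := M ^^^ lmul n (look X r) M

/-- the code of `x_{r_1}(1) ⋯ x_{r_k}(1) * M` -/
def wc (n : ℕ) (X : List (ℕ × Sparse)) (w : List ℕ) (M : ℕ) : ℕ := w.foldr (mulX n X) M

theorem wc_nil (n : ℕ) (X : List (ℕ × Sparse)) (M : ℕ) : wc n X [] M = M := rfl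
theorem wc_cons (n : ℕ) (X : List (ℕ × Sparse)) (r : ℕ) (w : List ℕ) (M : ℕ) :
    wc n X (r :: w) M = mulX n X r (wc n X w M) := rfl

variable {D : ChevalleyDatum} (hD : InList D) (K : Type u) [Field K]

/-- the product of the `x_r(1)` -/
def wG (w : List ℕ) : GL D.Idx K := (w.map fun r => xG hD r (1 : K)).prod

theorem wG_nil : wG hD K [] = 1 := rfl
theorem wG_cons (r : ℕ) (w : List ℕ) : wG hD K (r :: w) = xG hD r 1 * wG hD K w := rfl
theorem wG_append (w v : List ℕ) : wG hD K (w ++ v) = wG hD K w * wG hD K v := by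
  unfold wG; rw [List.map_append, List.prod_append]

theorem wG_mem (w : List ℕ) : wG hD K w ∈ D.group K := by
  induction w with
  | nil => exact one_mem _
  | cons r w ih => exact mul_mem (xG_mem_group hD r 1) ih

/-- the product of the `x_r(1)` in the group -/
def wg (w : List ℕ) : ↥(D.group K) := ⟨wG hD K w, wG_mem hD K w⟩

theorem wg_nil : wg hD K [] = 1 := rfl
theorem wg_append (w v : List ℕ) : wg hD K (w ++ v) = wg hD K w * wg hD K v := Subtype.ext (wG_append hD K w v)

/-- all letters are in the table -/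
def okW (X : List (ℕ × Sparse)) (w : List ℕ) : Bool := w.all (hasR X)

theorem okW_cons {X : List (ℕ × Sparse)} {r : ℕ} {w : List ℕ} (h : okW X (r :: w) = true) :
    hasR X r = true ∧ okW X w = true := by
  unfold okW at h ⊢
  rwa [List.all_cons, Bool.and_eq_true] at h

variable {K} [CharP K 2] {X : List (ℕ × Sparse)} (hX : okT D X = true)

include hX

theorem sem_mulX {r : ℕ} (hr : hasR X r = true) (M : ℕ) :
    sem (sz D) (pos D) K (mulX (sz D) X r M) = D.x K r 1 * sem (sz D) (pos D) K M := by
  obtain ⟨h1, h2, h3⟩ := look_spec hX hr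
  rw [mulX, sem_xor, sem_lmul (posOK D) _ h2, x_one_eq D h1, add_mul, one_mul, h3]

theorem sem_wc {w : List ℕ} (hw : okW X w = true) (M : ℕ) :
    sem (sz D) (pos D) K (wc (sz D) X w M) =
      (wG hD K w : Matrix D.Idx D.Idx K) * sem (sz D) (pos D) K M := by
  induction w with
  | nil => rw [wc_nil, wG_nil, Units.val_one, one_mul]
  | cons r w ih =>
    obtain ⟨h1, h2⟩ := okW_cons hw
    rw [wc_cons, sem_mulX hX h1, ih h2, wG_cons, Units.val_mul, mul_assoc, coe_xG]

theorem coe_wG {w : List ℕ} (hw : okW X w = true) :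
    (wG hD K w : Matrix D.Idx D.Idx K) = sem (sz D) (pos D) K (wc (sz D) X w (idN (sz D))) := by
  rw [sem_wc hD hX hw, sem_idN (posOK D), mul_one]

/-- equality of words -/
theorem eq_of_code {a b : List ℕ} (ha : okW X a = true) (hb : okW X b = true)
    (h : Nat.beq (wc (sz D) X a (idN (sz D))) (wc (sz D) X b (idN (sz D))) = true) : wG hD K a = wG hD K b := by
  apply Units.ext
  rw [coe_wG hD hX ha, coe_wG hD hX hb, Nat.eq_of_beq_eq_true h]

/-- words with different codes -/
theorem ne_of_code {a b : List ℕ} (ha : okW X a = true) (hb : okW X b = true) {i j : ℕ}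
    (hi : i < sz D) (hj : j < sz D)
    (h : (wc (sz D) X a (idN (sz D))).testBit (sz D * i + j) ≠ (wc (sz D) X b (idN (sz D))).testBit (sz D * i + j)) :
    wG hD K a ≠ wG hD K b := by
  intro e
  have h1 : sem (sz D) (pos D) K (wc (sz D) X a (idN (sz D))) = sem (sz D) (pos D) K (wc (sz D) X b (idN (sz D))) := by
    rw [← coe_wG hD hX ha, ← coe_wG hD hX hb, e]
  exact h (sem_inj (posOK D) h1 hi hj)

omit hX in
theorem xG_one_inv (r : ℕ) : (xG hD r (1 : K))⁻¹ = xG hD r 1 := by
  rw [xG_inv, CharTwo.neg_eq]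

omit hX in
theorem wG_inv (w : List ℕ) : (wG hD K w)⁻¹ = wG hD K w.reverse := by
  induction w with
  | nil => rw [wG_nil, inv_one, List.reverse_nil, wG_nil]
  | cons r w ih =>
    rw [wG_cons, mul_inv_rev, ih, List.reverse_cons, wG_append, xG_one_inv, wG_cons, wG_nil, mul_one]

omit hX in
theorem wg_inv (w : List ℕ) : (wg hD K w)⁻¹ = wg hD K w.reverse := Subtype.ext (wG_inv hD w)

end Cfsg.Agent.H751.Two.Code
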