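import Cfsg.Agent.H751.Two.Code

/-!
# Words in `E₆(2)` (helper751, S2187, `p = 7`)

`X` : the table of root elements; `kr` : the roots of a subsystem `A₂ × ⋯ × A₂` (six for each factor);
`tw` : words of order 7; `xw` : words of further elements; `st` : `x_k = [x_r, x_s]`.
-/

set_option autoImplicit false

namespace Cfsg.Agent.H751.Two.DataE6

open Cfsg.Agent.H751.Two.Bits

/-- the table of root elements -/
def X : List (ℕ × Sparse) := [
  (0, [(6, 1), (0, 77), (3, 77), (5, 77), (6, 77), (7, 52), (8, 53), (9, 54), (10, 55), (11, 56), (12, 57), (13, 58),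
    (14, 59), (15, 60), (16, 61), (22, 67), (23, 68), (24, 69), (25, 70), (26, 71), (27, 72), (28, 73), (29, 74),
    (30, 75), (31, 76)]),
  (1, [(7, 1), (7, 3), (0, 76), (1, 76), (3, 76), (5, 76), (7, 76), (6, 31), (8, 45), (9, 46), (10, 47), (11, 49),
    (12, 50), (13, 51), (17, 59), (18, 60), (19, 61), (22, 64), (23, 65), (24, 66), (32, 70), (33, 71), (34, 72),
    (36, 73), (37, 74), (38, 75), (52, 77)]),
  (2, [(8, 2), (8, 3), (8, 4), (0, 75), (1, 75), (5, 75), (8, 75), (6, 30), (7, 38), (9, 43), (10, 44), (11, 48),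
    (14, 50), (15, 51), (17, 57), (18, 58), (20, 61), (22, 63), (25, 65), (26, 66), (32, 68), (33, 69), (35, 72),
    (39, 73), (40, 74), (45, 76), (53, 77)]),
  (6, [(12, 0), (12, 2), (12, 3), (12, 4), (12, 5), (0, 71), (1, 71), (2, 71), (4, 71), (5, 71), (12, 71), (6, 26),
    (7, 33), (9, 35), (11, 40), (13, 42), (14, 45), (16, 47), (17, 53), (19, 55), (21, 60), (23, 62), (28, 64),
    (30, 66), (36, 67), (38, 69), (41, 70), (43, 72), (48, 74), (50, 76), (57, 77)]),
  (14, [(20, 0), (20, 2), (20, 3), (0, 63), (2, 63), (20, 63), (8, 22), (9, 23), (10, 24), (14, 28), (15, 29),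
    (16, 30), (17, 36), (18, 37), (19, 38), (21, 48), (35, 62), (45, 64), (46, 65), (47, 66), (53, 67), (54, 68),
    (55, 69), (59, 73), (60, 74), (61, 75)]),
  (15, [(21, 2), (0, 62), (21, 62), (11, 22), (12, 23), (13, 24), (14, 25), (15, 26), (16, 27), (17, 32), (18, 33),
    (19, 34), (20, 35), (48, 63), (49, 64), (50, 65), (51, 66), (56, 67), (57, 68), (58, 69), (59, 70), (60, 71),
    (61, 72)]),
  (16, [(22, 0), (22, 4), (1, 61), (2, 61), (5, 61), (22, 61), (6, 16), (7, 19), (8, 20), (11, 21), (23, 43),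
    (24, 44), (25, 46), (26, 47), (28, 50), (29, 51), (32, 54), (33, 55), (36, 57), (37, 58), (39, 59), (40, 60),
    (62, 72), (63, 75), (64, 76), (67, 77)]),
  (19, [(25, 0), (25, 1), (25, 2), (25, 3), (25, 5), (1, 58), (2, 58), (3, 58), (4, 58), (5, 58), (25, 58), (6, 13),
    (8, 18), (9, 19), (14, 21), (22, 37), (23, 38), (26, 42), (27, 44), (28, 48), (31, 51), (32, 52), (35, 55),
    (39, 56), (41, 57), (45, 60), (46, 61), (62, 69), (64, 74), (65, 75), (70, 77)]),
  (25, [(31, 3), (1, 52), (31, 52), (6, 7), (14, 17), (15, 18), (16, 19), (25, 32), (26, 33), (27, 34), (28, 36),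
    (29, 37), (30, 38), (45, 53), (46, 54), (47, 55), (49, 56), (50, 57), (51, 58), (64, 67), (65, 68), (66, 69),
    (76, 77)]),
  (29, [(35, 0), (35, 3), (2, 48), (35, 48), (8, 11), (9, 12), (10, 13), (20, 21), (25, 28), (26, 29), (27, 30),
    (32, 36), (33, 37), (34, 38), (45, 49), (46, 50), (47, 51), (53, 56), (54, 57), (55, 58), (62, 63), (70, 73),
    (71, 74), (72, 75)]),
  (33, [(39, 3), (39, 4), (39, 5), (4, 44), (5, 44), (39, 44), (8, 10), (11, 13), (14, 16), (17, 19), (22, 24),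
    (25, 27), (28, 30), (32, 34), (36, 38), (40, 42), (41, 43), (45, 47), (49, 51), (53, 55), (56, 58), (59, 61),
    (64, 66), (67, 69), (70, 72), (73, 75)]),
  (34, [(40, 3), (40, 5), (4, 43), (40, 43), (8, 9), (11, 12), (15, 16), (18, 19), (22, 23), (26, 27), (29, 30),
    (33, 34), (37, 38), (39, 41), (42, 44), (45, 46), (49, 50), (53, 54), (56, 57), (60, 61), (64, 65), (67, 68),
    (71, 72), (74, 75)]),
  (35, [(41, 4), (5, 42), (41, 42), (9, 10), (12, 13), (14, 15), (17, 18), (23, 24), (25, 26), (28, 29), (32, 33),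
    (36, 37), (39, 40), (43, 44), (46, 47), (50, 51), (54, 55), (57, 58), (59, 60), (65, 66), (68, 69), (70, 71),
    (73, 74)]),
  (36, [(42, 4), (5, 41), (42, 41), (10, 9), (13, 12), (15, 14), (18, 17), (24, 23), (26, 25), (29, 28), (33, 32),
    (37, 36), (40, 39), (44, 43), (47, 46), (51, 50), (55, 54), (58, 57), (60, 59), (66, 65), (69, 68), (71, 70),
    (74, 73)]),
  (37, [(43, 3), (43, 5), (4, 40), (43, 40), (9, 8), (12, 11), (16, 15), (19, 18), (23, 22), (27, 26), (30, 29),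
    (34, 33), (38, 37), (41, 39), (44, 42), (46, 45), (50, 49), (54, 53), (57, 56), (61, 60), (65, 64), (68, 67),
    (72, 71), (75, 74)]),
  (38, [(44, 3), (44, 4), (44, 5), (4, 39), (5, 39), (44, 39), (10, 8), (13, 11), (16, 14), (19, 17), (24, 22),
    (27, 25), (30, 28), (34, 32), (38, 36), (42, 40), (43, 41), (47, 45), (51, 49), (55, 53), (58, 56), (61, 59),
    (66, 64), (69, 67), (72, 70), (75, 73)]),
  (42, [(48, 0), (48, 3), (2, 35), (48, 35), (11, 8), (12, 9), (13, 10), (21, 20), (28, 25), (29, 26), (30, 27),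
    (36, 32), (37, 33), (38, 34), (49, 45), (50, 46), (51, 47), (56, 53), (57, 54), (58, 55), (63, 62), (73, 70),
    (74, 71), (75, 72)]),
  (43, [(49, 0), (49, 1), (49, 2), (49, 3), (49, 4), (2, 34), (3, 34), (49, 34), (11, 7), (14, 9), (15, 10),
    (21, 19), (28, 23), (29, 24), (31, 27), (39, 32), (40, 33), (45, 35), (48, 38), (50, 43), (51, 44), (56, 52),
    (59, 54), (60, 55), (64, 62), (73, 68), (74, 69), (76, 72)]),
  (46, [(52, 3), (1, 31), (52, 31), (7, 6), (17, 14), (18, 15), (19, 16), (32, 25), (33, 26), (34, 27), (36, 28),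
    (37, 29), (38, 30), (53, 45), (54, 46), (55, 47), (56, 49), (57, 50), (58, 51), (67, 64), (68, 65), (69, 66),
    (77, 76)]),
  (47, [(53, 1), (53, 2), (53, 3), (53, 4), (1, 30), (3, 30), (53, 30), (8, 6), (17, 12), (18, 13), (20, 16),
    (32, 23), (33, 24), (35, 27), (39, 28), (40, 29), (45, 31), (52, 38), (54, 43), (55, 44), (56, 48), (59, 50),
    (60, 51), (67, 63), (70, 65), (71, 66), (77, 75)]),
  (56, [(62, 2), (0, 21), (62, 21), (22, 11), (23, 12), (24, 13), (25, 14), (26, 15), (27, 16), (32, 17), (33, 18),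
    (34, 19), (35, 20), (63, 48), (64, 49), (65, 50), (66, 51), (67, 56), (68, 57), (69, 58), (70, 59), (71, 60),
    (72, 61)]),
  (57, [(63, 0), (63, 2), (63, 3), (0, 20), (2, 20), (63, 20), (22, 8), (23, 9), (24, 10), (28, 14), (29, 15),
    (30, 16), (36, 17), (37, 18), (38, 19), (48, 21), (62, 35), (64, 45), (65, 46), (66, 47), (67, 53), (68, 54),
    (69, 55), (73, 59), (74, 60), (75, 61)]),
  (58, [(64, 0), (64, 1), (64, 3), (64, 4), (0, 19), (2, 19), (3, 19), (64, 19), (22, 7), (25, 9), (26, 10),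
    (28, 12), (29, 13), (31, 16), (39, 17), (40, 18), (45, 20), (49, 21), (62, 34), (63, 38), (65, 43), (66, 44),
    (67, 52), (70, 54), (71, 55), (73, 57), (74, 58), (76, 61)]),
  (67, [(73, 2), (73, 5), (0, 10), (1, 10), (4, 10), (73, 10), (28, 6), (36, 7), (39, 8), (41, 9), (48, 13),
    (49, 15), (50, 16), (56, 18), (57, 19), (59, 20), (63, 24), (64, 26), (65, 27), (67, 33), (68, 34), (70, 35),
    (74, 42), (75, 44), (76, 47), (77, 55)]),
  (70, [(76, 1), (76, 3), (0, 7), (1, 7), (3, 7), (5, 7), (76, 7), (31, 6), (45, 8), (46, 9), (47, 10), (49, 11),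
    (50, 12), (51, 13), (59, 17), (60, 18), (61, 19), (64, 22), (65, 23), (66, 24), (70, 32), (71, 33), (72, 34),
    (73, 36), (74, 37), (75, 38), (77, 52)]),
  (71, [(77, 1), (0, 6), (3, 6), (5, 6), (77, 6), (52, 7), (53, 8), (54, 9), (55, 10), (56, 11), (57, 12), (58, 13),
    (59, 14), (60, 15), (61, 16), (67, 22), (68, 23), (69, 24), (70, 25), (71, 26), (72, 27), (73, 28), (74, 29),
    (75, 30), (76, 31)])]

/-- the roots of the factors -/
def kr : List (List ℕ) := [[56, 42, 57, 15, 29, 14], [37, 36, 38, 34, 35, 33], [46, 0, 1, 25, 71, 70]]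

/-- the words of order 7 -/
def tw : List (List ℕ) := [[56, 42, 14], [37, 36, 33], [46, 0, 70]]

/-- the words of further elements -/
def xw : List (List ℕ) := [[19, 16, 58, 6, 47, 43, 67, 38, 67, 43, 47, 6, 58, 16, 19]]

/-- the further relations `x_b = [x_c, g x g⁻¹]`, `g = x y` : `(c, y, b)` -/
def rl : List (ℕ × List ℕ × ℕ) := [(29, [15, 0], 2)]

/-- commutator steps -/
def st : List (ℕ × ℕ × ℕ) := [
  (42, 2, 5), (57, 2, 16), (37, 2, 3), (37, 5, 6), (37, 16, 17), (36, 3, 4), (36, 6, 7), (36, 17, 18), (71, 2, 47),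
  (71, 5, 50), (71, 16, 61), (71, 3, 48), (71, 6, 51), (71, 17, 62), (71, 4, 49), (71, 7, 52), (71, 18, 63),
  (70, 2, 39), (70, 5, 43), (70, 16, 58), (70, 3, 40), (70, 6, 44), (70, 17, 59), (70, 4, 41), (70, 7, 45),
  (70, 18, 60), (2, 51, 11), (2, 62, 26), (2, 52, 12), (2, 63, 27), (2, 44, 8), (2, 59, 19), (2, 45, 9), (2, 60, 20),
  (42, 26, 30), (42, 27, 31), (42, 19, 22), (42, 20, 23), (37, 12, 13), (37, 27, 28), (37, 9, 10), (37, 20, 21),
  (37, 31, 32), (37, 23, 24), (71, 8, 53), (71, 19, 64), (71, 9, 54), (71, 20, 65), (71, 22, 67), (71, 23, 68),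
  (71, 10, 55), (71, 21, 66), (71, 24, 69)]

end Cfsg.Agent.H751.Two.DataE6
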