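import Cfsg.Agent.H751.Two.Rank
import Cfsg.Agent.S1055
import Cfsg.Agent.S1059
import Cfsg.Agent.S2121

/-!
# S2187: `G₂(3)` (helper751): no `p`-subgroups of order `p ^ 2`, `p ≥ 5`
-/

set_option autoImplicit false

namespace Cfsg.Agent.H751.Two.G2Three

open Cfsg Subgroup Cfsg.Lie Cfsg.Agent.H818.Gen Cfsg.Agent.H751.Two.Rank

theorem gen_g2_three {F : Type} [Field F] [Fintype F] (hF : Fintype.card F = 3) {p : ℕ} (hp : p.Prime) (hp2 : p ≠ 2)
    (hp3 : p ≠ 3) : Gen p ↥(chevG2.group F) := by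
  have : Fact p.Prime := ⟨hp⟩
  have : Fact (Nat.Prime 3) := ⟨Nat.prime_three⟩
  have h5 : 5 ≤ p := by
    have h2 := hp.two_le
    have h4 : p ≠ 4 := by rintro rfl; exact absurd hp (by norm_num)
    omega
  have : CharP F 3 := by
    obtain ⟨q, hq⟩ := CharP.exists F
    have hqp : Fact q.Prime := ⟨CharP.char_is_prime F q⟩
    obtain ⟨n, -, h⟩ := FiniteField.card F q
    rw [hF] at h
    have h1 : q ∣ 3 := by rw [h]; exact dvd_pow_self q n.pos.ne'
    have h2 : q = 3 := (Nat.prime_dvd_prime_iff_eq hqp.out Nat.prime_three).1 h1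
    exact h2 ▸ hq
  have hex : ∃ a : F, a ≠ 0 ∧ a ≠ 1 := by
    refine ⟨-1, neg_ne_zero.2 one_ne_zero, fun h => ?_⟩
    have h2 : (2 : F) = 0 := by linear_combination -h
    have h3 : ((2 : ℕ) : F) = 0 := by exact_mod_cast h2
    rw [CharP.cast_eq_zero_iff F 3] at h3
    exact absurd h3 (by decide)
  obtain ⟨hs, hna⟩ := Cfsg.Agent.S1055.result (F := F) hex
  have hz := H240.GenTwF.center_bot hna
  have hfin : Finite ↥(chevG2.group F) := inferInstance
  have hout : Nat.card (Out ↥(chevG2.group F)) = 2 :=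
    (Cfsg.Agent.S2121.result (F := F) 3 1 (by rw [hF, pow_one]) (by norm_num)).trans (by norm_num)
  have ho : ¬ p ∣ Nat.card (Out ↥(chevG2.group F)) := by
    rw [hout]; exact fun h => absurd (Nat.le_of_dvd (by norm_num) h) (by omega)
  have hc := Cfsg.Agent.S1059.result (F := F) hF
  refine gen_of_not_sq hz ho fun hsq => ?_
  have h1 : p ^ 2 ∣ 2 ^ 6 * 3 ^ 6 * (7 * 13) := by
    rw [hc] at hsq
    refine hsq.trans (dvd_of_eq (by norm_num))
  have hcop : ∀ {a k : ℕ}, a.Prime → p ≠ a → (p ^ 2).Coprime (a ^ k) := fun ha hne =>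
    Nat.Coprime.pow _ _ ((Nat.coprime_primes hp ha).2 hne)
  have h2 : p ^ 2 ∣ 7 * 13 := by
    have h3 := (Nat.Coprime.mul_right (hcop (k := 6) Nat.prime_two hp2) (hcop (k := 6) Nat.prime_three hp3)).dvd_of_dvd_mul_left h1
    exact h3
  have h3 : p ≤ 9 := by
    have := Nat.le_of_dvd (by norm_num) h2
    nlinarith
  interval_cases p <;> revert h2 <;> norm_num

end Cfsg.Agent.H751.Two.G2Three
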